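import Cfsg.Agent.SUDeg.Key
import Cfsg.Agent.Classical.UnitaryGroup

/-!
The degree bound for irreducible representations of special unitary groups.
-/

set_option autoImplicit false
set_option linter.unusedSectionVars false

namespace Cfsg.Agent.SUDeg

open Module Cfsg.Agent.Classical Cfsg.Agent.Classical.Herm

theorem bnd_even (q j : ℕ) (hq : 1 ≤ q) : bnd q (2 * j) * (q + 1) + 1 = q ^ (2 * j) := by
  induction j with
  | zero => simp [bnd]
  | succ j ih =>
    rw [show 2 * (j + 1) = 2 * j + 2 by ring, bnd]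
    obtain ⟨r, rfl⟩ : ∃ r, q = r + 1 := ⟨q - 1, by omega⟩
    rw [add_mul, add_assoc, ih, Nat.add_sub_cancel]
    ring

theorem bnd_odd (q j : ℕ) (hq : 1 ≤ q) : bnd q (2 * j + 1) * (q + 1) + q = q ^ (2 * j + 1) := by
  induction j with
  | zero => simp [bnd]
  | succ j ih =>
    rw [show 2 * (j + 1) + 1 = 2 * j + 1 + 2 by ring, bnd]
    obtain ⟨r, rfl⟩ : ∃ r, q = r + 1 := ⟨q - 1, by omega⟩
    rw [add_mul, add_assoc, ih, Nat.add_sub_cancel]
    ring

theorem bnd_le_of_nontrivial {F V : Type*} [Field F] [Finite F] [AddCommGroup V] [Module F V]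
    [FiniteDimensional F V] {σ : F →+* F} {B : V →ₛₗ[σ] V →ₗ[F] F} (h : IsHerm B) (hn : 3 ≤ finrank F V)
    {W : Type*} [AddCommGroup W] [Module ℂ W] [FiniteDimensional ℂ W] (ρ : Representation ℂ (suG B) W)
    {e : V} (he : B e e = 0) {s : Skew σ} (hs : ρ (Zel h he s) ≠ 1) :
    bnd (Nat.card (fixField σ)) (finrank F V) ≤ finrank ℂ W := by
  have hM : Nondeg B ⊤ := fun x _ hx => h.nondeg x fun y => hx y trivial
  obtain ⟨v, hv⟩ : ∃ v, ρ (Zel h he s) v ≠ v := by
    by_contra hc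
    push Not at hc
    exact hs (LinearMap.ext hc)
  refine (key h ρ _ ⊤ (finrank_top F V) hM ⊤ Set.univ (fun _ _ _ _ => trivial) (fun _ _ => trivial) ?_ e he trivial
    ⟨v, trivial, s, hv⟩).trans (le_of_eq (finrank_top ℂ W))
  intro w _ w' _ hw hw' hww t ht
  obtain ⟨hd, hnd⟩ := pair_compl h hM (e := w) (f := w') trivial trivial hw hw' hww
  obtain ⟨u, ⟨⟨-, hwu⟩, hw'u⟩, huu⟩ := exists_unit h hnd fun h0 => by
    rw [h0, finrank_bot, finrank_top] at hd
    omega
  obtain ⟨g, -, hg⟩ := exists_torus3 h (M := ⊤) (u := u) trivial trivial trivial hw hw' hww huu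
    ((eq_zero_comm h).1 hwu) ((eq_zero_comm h).1 hw'u) ht
  exact ⟨g, trivial, hg⟩

theorem trivial_of_root_trivial {F V : Type*} [Field F] [Finite F] [AddCommGroup V] [Module F V]
    [FiniteDimensional F V] {σ : F →+* F} {B : V →ₛₗ[σ] V →ₗ[F] F} (h : IsHerm B) (hn : 2 ≤ finrank F V)
    (hr : (∃ r : F, σ r = r ∧ r ≠ 0 ∧ r ≠ 1) ∨ finrank F V ≠ 3)
    {M : Type*} [Monoid M] (f : suG B →* M) (hf : ∀ (e : V) (he : B e e = 0) (s : Skew σ), f (Zel h he s) = 1)
    (g : suG B) : f g = 1 := by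
  have hle : suG B ≤ f.ker.map (suG B).subtype := by
    conv_lhs => rw [← suG_eq_TUon h hn hr]
    refine (Subgroup.closure_le _).2 ?_
    rintro t ⟨e, -, c, he, hc, ht⟩
    exact ⟨Zel h he ⟨c, hc⟩, hf e he _, LinearEquiv.ext fun x => (ht x).symm⟩
  obtain ⟨k, hk, hkg⟩ := hle g.2
  rw [← Subtype.ext hkg]
  exact hk

theorem degree_ge {F : Type*} [Field F] [Fintype F] (n q : ℕ) (hn : 3 ≤ n) (hF : Fintype.card F = q ^ 2)
    (h32 : ¬(n = 3 ∧ q = 2)) (k : ℕ) (ρ : Representation ℂ (Cfsg.SU n F q) (Fin k → ℂ)) (hirr : ρ.IsIrreducible)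
    (hk : 2 ≤ k) : bnd q n ≤ k := by
  obtain ⟨σ, hσq, hσ, hq, hq1⟩ := exists_powHom hF
  have h := hermB_isHerm hσ n
  let ρ' : Representation ℂ (suG (hermB n σ)) (Fin k → ℂ) := ρ.comp (suEquiv n hσq).symm.toMonoidHom
  have hn' : finrank F (Fin n → F) = n := Module.finrank_fin_fun F
  by_cases hnt : ∃ (e : Fin n → F) (he : hermB n σ e e = 0) (s : Skew σ), ρ' (Zel h he s) ≠ 1
  · obtain ⟨e, he, s, hs⟩ := hnt
    have := bnd_le_of_nontrivial h (by omega) ρ' he hs
    rwa [hq, hn', Module.finrank_fin_fun] at this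
  push Not at hnt
  exfalso
  have htriv : ∀ g, ρ g = 1 := fun g => by
    have := trivial_of_root_trivial h (by omega) (hr_of_not_three_two hq h32 hq1) ρ' hnt (suEquiv n hσq g)
    simpa [ρ'] using this
  let e0 : Fin k → ℂ := Pi.single (⟨0, by omega⟩ : Fin k) 1
  let S : Subrepresentation ρ := ⟨Submodule.span ℂ {e0}, fun g v hv => by rw [htriv g]; exact hv⟩
  have h0 : e0 ≠ 0 := fun e => by
    have := congrFun e ⟨0, by omega⟩
    simp [e0] at this
  rcases IsSimpleOrder.eq_bot_or_eq_top S with h1 | h1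
  · have h2 : S.toSubmodule = ⊥ := by rw [h1]; rfl
    exact h0 (Submodule.span_singleton_eq_bot.1 h2)
  · have h2 : S.toSubmodule = ⊤ := by rw [h1]; rfl
    have h3 := finrank_span_singleton (K := ℂ) h0
    change Module.finrank ℂ S.toSubmodule = 1 at h3
    rw [h2, finrank_top, Module.finrank_fintype_fun_eq_card, Fintype.card_fin] at h3
    omega

theorem odd_eq (q n : ℕ) (hq : 1 ≤ q) (hn : Odd n) : (q ^ n - q) / (q + 1) = bnd q n := by
  obtain ⟨j, rfl⟩ := hn
  rw [← bnd_odd q j hq, Nat.add_sub_cancel, Nat.mul_div_cancel _ (Nat.succ_pos _)]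

theorem even_eq (q n : ℕ) (hq : 1 ≤ q) (hn : Even n) : (q ^ n - 1) / (q + 1) = bnd q n := by
  obtain ⟨j, rfl⟩ := hn
  rw [← two_mul, ← bnd_even q j hq, Nat.add_sub_cancel, Nat.mul_div_cancel _ (Nat.succ_pos _)]

end Cfsg.Agent.SUDeg
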