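import Mathlib

/-!
Simultaneous eigenspaces of a finite abelian group acting on an invariant subspace.
-/

set_option autoImplicit false

namespace Cfsg.Agent.SUDeg

open Module

variable {A : Type*} [AddCommGroup A] [Finite A] {W : Type*} [AddCommGroup W] [Module ℂ W]
variable (φ : AddChar A (Module.End ℂ W)) (C : Submodule ℂ W)

/-- The eigenspace of a character inside `C`. -/
def eig (χ : AddChar A ℂ) : Submodule ℂ W := C ⊓ ⨅ a, LinearMap.ker (φ a - χ a • 1)

variable {φ C}

omit [Finite A] in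
theorem mem_eig {χ : AddChar A ℂ} {v : W} : v ∈ eig φ C χ ↔ v ∈ C ∧ ∀ a, φ a v = χ a • v := by
  simp [eig, Submodule.mem_iInf, sub_eq_zero]

/-- The projection on an eigenspace. -/
noncomputable def proj (φ : AddChar A (Module.End ℂ W)) (χ : AddChar A ℂ) : Module.End ℂ W :=
  letI := Fintype.ofFinite A
  (Fintype.card A : ℂ)⁻¹ • ∑ a, χ (-a) • φ a

theorem proj_apply [Fintype A] (χ : AddChar A ℂ) (v : W) :
    proj φ χ v = (Fintype.card A : ℂ)⁻¹ • ∑ a, χ (-a) • φ a v := by
  rw [proj, Subsingleton.elim (Fintype.ofFinite A) ‹Fintype A›]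
  simp [LinearMap.sum_apply, LinearMap.smul_apply]

theorem proj_mem (hC : ∀ a, ∀ v ∈ C, φ a v ∈ C) (χ : AddChar A ℂ) {v : W} (hv : v ∈ C) :
    proj φ χ v ∈ eig φ C χ := by
  classical
  let _ := Fintype.ofFinite A
  refine mem_eig.2 ⟨?_, fun b => ?_⟩
  · rw [proj_apply]
    exact C.smul_mem _ (C.sum_mem fun a _ => C.smul_mem _ (hC a v hv))
  · rw [proj_apply, map_smul, map_sum, smul_comm (χ b), Finset.smul_sum (r := χ b)]
    congr 1
    refine (Fintype.sum_equiv (Equiv.addLeft b) _ _ fun a => ?_)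
    have h1 : φ b (φ a v) = φ (b + a) v := by rw [AddChar.map_add_eq_mul]; rfl
    rw [map_smul, h1, Equiv.coe_addLeft, smul_smul, ← AddChar.map_add_eq_mul]
    congr 2
    change -a = b + -(b + a)
    abel

theorem proj_of_mem {χ χ' : AddChar A ℂ} [Decidable (χ = χ')] {v : W} (hv : v ∈ eig φ C χ') :
    proj φ χ v = if χ = χ' then v else 0 := by
  classical
  let _ := Fintype.ofFinite A
  rw [proj_apply]
  have h1 : ∀ a, χ (-a) • φ a v = (χ⁻¹ * χ') a • v := fun a => by
    rw [(mem_eig.1 hv).2 a, smul_smul, AddChar.mul_apply, AddChar.inv_apply]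
  rw [Finset.sum_congr rfl fun a _ => h1 a, ← Finset.sum_smul, smul_smul]
  by_cases hχ : χ = χ'
  · subst hχ
    simp
  · rw [if_neg hχ, AddChar.sum_eq_zero_of_ne_one (fun h => hχ (inv_mul_eq_one.1 h)), mul_zero, zero_smul]

theorem sum_proj (v : W) : ∃ _ : Fintype (AddChar A ℂ), ∑ χ, proj φ χ v = v := by
  classical
  let _ := Fintype.ofFinite A
  refine ⟨inferInstance, ?_⟩
  simp only [proj_apply]
  rw [← Finset.smul_sum, Finset.sum_comm]
  simp_rw [← Finset.sum_smul, AddChar.sum_apply_eq_ite, neg_eq_zero, ite_smul, zero_smul, Finset.sum_ite_eq',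
    Finset.mem_univ, if_true, AddChar.map_zero_eq_one, Module.End.one_apply]
  rw [smul_smul, inv_mul_cancel₀ (Nat.cast_ne_zero.2 Fintype.card_ne_zero), one_smul]

/-- A nontrivial action has a nonzero eigenspace for a nontrivial character. -/
theorem exists_eig_nontrivial (hC : ∀ a, ∀ v ∈ C, φ a v ∈ C) {v : W} (hv : v ∈ C) {a : A} (ha : φ a v ≠ v) :
    ∃ χ : AddChar A ℂ, χ ≠ 1 ∧ eig φ C χ ≠ ⊥ := by
  classical
  by_contra hc
  push Not at hc
  obtain ⟨_, hs⟩ := sum_proj (φ := φ) v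
  rw [Finset.sum_eq_single (1 : AddChar A ℂ)] at hs
  · have := (mem_eig.1 (proj_mem hC 1 hv)).2 a
    rw [hs, AddChar.one_apply, one_smul] at this
    exact ha this
  · intro χ _ hχ
    have := proj_mem hC χ hv
    rwa [hc χ hχ, Submodule.mem_bot] at this
  · simp

/-- A nonzero invariant subspace has an eigenvector. -/
theorem exists_eig (hC : ∀ a, ∀ v ∈ C, φ a v ∈ C) {v : W} (hv : v ∈ C) (hv0 : v ≠ 0) :
    ∃ χ : AddChar A ℂ, ∃ u ∈ eig φ C χ, u ≠ 0 := by
  classical
  obtain ⟨_, hs⟩ := sum_proj (φ := φ) v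
  by_contra hc
  push Not at hc
  exact hv0 (hs.symm.trans (Finset.sum_eq_zero fun χ _ => hc χ _ (proj_mem hC χ hv)))

theorem sum_finrank_le [FiniteDimensional ℂ W] (S : Finset (AddChar A ℂ)) :
    ∑ χ ∈ S, finrank ℂ (eig φ C χ) ≤ finrank ℂ C := by
  classical
  let Φ : ((χ : S) → eig φ C χ.1) →ₗ[ℂ] C :=
    LinearMap.codRestrict C (∑ χ : S, (eig φ C χ.1).subtype ∘ₗ LinearMap.proj χ) fun f => by
      rw [LinearMap.sum_apply]
      exact C.sum_mem fun χ _ => (mem_eig.1 (f χ).2).1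
  have hinj : Function.Injective Φ := (injective_iff_map_eq_zero Φ).2 fun f hf => funext fun χ₀ => by
    refine Subtype.ext ?_
    have h1 : (∑ χ : S, ((f χ : W))) = 0 := by
      have := congrArg Subtype.val hf
      simpa [Φ, LinearMap.sum_apply] using this
    have h2 := congrArg (proj φ χ₀.1) h1
    rw [map_sum, map_zero, Finset.sum_eq_single χ₀] at h2
    · rw [proj_of_mem (f χ₀).2, if_pos rfl] at h2
      exact h2
    · intro χ _ hχ
      rw [proj_of_mem (f χ).2, if_neg fun h => hχ (Subtype.ext h).symm]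
    · simp
  have := LinearMap.finrank_le_finrank_of_injective hinj
  rw [Module.finrank_pi_fintype] at this
  rwa [← Finset.sum_coe_sort]

end Cfsg.Agent.SUDeg
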