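import Cfsg.Agent.SUDeg.Elements
import Cfsg.Agent.SUDeg.Eigen

/-!
Characters of the skew elements and the eigenspaces of a root group.
-/

set_option autoImplicit false
set_option linter.unusedSectionVars false
set_option linter.unusedSimpArgs false

namespace Cfsg.Agent.SUDeg

open Module Cfsg.Agent.Classical.Herm

variable {F V : Type*} [Field F] [Finite F] [AddCommGroup V] [Module F V] [FiniteDimensional F V]
variable {σ : F →+* F} {B : V →ₛₗ[σ] V →ₗ[F] F}

/-- A character moved by a fixed element. -/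
def shift (χ : AddChar (Skew σ) ℂ) (r : F) (hr : σ r = r) : AddChar (Skew σ) ℂ where
  toFun s := χ ⟨r * s, skew_mul s.2 hr⟩
  map_zero_eq_one' := by
    rw [show (⟨r * ((0 : Skew σ) : F), skew_mul (0 : Skew σ).2 hr⟩ : Skew σ) = 0 from Subtype.ext (mul_zero r),
      AddChar.map_zero_eq_one]
  map_add_eq_mul' s t := by
    rw [← AddChar.map_add_eq_mul]
    exact congrArg χ (Subtype.ext (mul_add r (s : F) t))

theorem shift_apply (χ : AddChar (Skew σ) ℂ) (r : F) (hr : σ r = r) (s : Skew σ) :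
    shift χ r hr s = χ ⟨r * s, skew_mul s.2 hr⟩ := rfl

/-- A nontrivial character is nontrivial on the skew elements. -/
theorem exists_ne_one {χ : AddChar (Skew σ) ℂ} (hχ : χ ≠ 1) : ∃ s, χ s ≠ 1 := by
  by_contra hc
  push Not at hc
  exact hχ (DFunLike.ext _ _ fun s => by rw [hc, AddChar.one_apply])

theorem shift_ne_one {χ : AddChar (Skew σ) ℂ} (hχ : χ ≠ 1) {r : F} (hr : σ r = r) (hr0 : r ≠ 0) :
    shift χ r hr ≠ 1 := by
  obtain ⟨s, hs⟩ := exists_ne_one hχ
  intro h1
  have hri : σ r⁻¹ = r⁻¹ := by rw [map_inv₀, hr]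
  have := DFunLike.congr_fun h1 ⟨r⁻¹ * s, skew_mul s.2 hri⟩
  rw [shift_apply, AddChar.one_apply] at this
  refine hs (Eq.trans (congrArg χ (Subtype.ext ?_)) this)
  exact (mul_inv_cancel_left₀ hr0 (s : F)).symm

theorem shift_injective {χ : AddChar (Skew σ) ℂ} (hχ : χ ≠ 1) {r r' : F} (hr : σ r = r) (hr' : σ r' = r')
    (he : shift χ r hr = shift χ r' hr') : r = r' := by
  by_contra hne
  refine shift_ne_one hχ (r := r - r') (by rw [map_sub, hr, hr']) (sub_ne_zero.2 hne) (DFunLike.ext _ _ fun s => ?_)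
  rw [shift_apply, AddChar.one_apply]
  have h1 := DFunLike.congr_fun he s
  rw [shift_apply, shift_apply] at h1
  have h2 : (⟨(r - r') * s, skew_mul s.2 (by rw [map_sub, hr, hr'])⟩ : Skew σ)
      = ⟨r * s, skew_mul s.2 hr⟩ + -⟨r' * s, skew_mul s.2 hr'⟩ := Subtype.ext (by
        simp only [AddSubgroup.coe_add, NegMemClass.coe_neg]; ring)
  rw [h2, AddChar.map_add_eq_mul, h1, ← AddChar.map_add_eq_mul, add_neg_cancel, AddChar.map_zero_eq_one]

theorem card_skew (hσ : IsInvol σ) : Nat.card (Skew σ) = Nat.card (fixField σ) := by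
  obtain ⟨k, hk0, hk⟩ := exists_skew hσ
  refine (Nat.card_eq_of_bijective (fun r : fixField σ => (⟨(r : F) * k, ?_⟩ : Skew σ)) ⟨?_, ?_⟩).symm
  · exact skew_mul (by rw [mem_skew, hk, add_neg_cancel]) r.2
  · exact fun a b hab => Subtype.ext (mul_right_cancel₀ hk0 (congrArg Subtype.val hab))
  · intro s
    refine ⟨⟨(s : F) / k, ?_⟩, Subtype.ext (div_mul_cancel₀ _ hk0)⟩
    have hs : σ (s : F) = -(s : F) := eq_neg_of_add_eq_zero_right s.2
    rw [mem_fixField, map_div₀, hk, hs, neg_div_neg_eq]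

/-- Every character is a shift of a given nontrivial one. -/
theorem exists_shift (hσ : IsInvol σ) {χ : AddChar (Skew σ) ℂ} (hχ : χ ≠ 1) (η : AddChar (Skew σ) ℂ) :
    ∃ (r : F) (hr : σ r = r), shift χ r hr = η := by
  classical
  let Φ : fixField σ → AddChar (Skew σ) ℂ := fun r => shift χ r.1 r.2
  have hinj : Function.Injective Φ := fun a b hab => Subtype.ext (shift_injective hχ a.2 b.2 hab)
  let _ := Fintype.ofFinite (Skew σ)
  have hcard : Nat.card (fixField σ) = Nat.card (AddChar (Skew σ) ℂ) := by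
    rw [← card_skew hσ, Nat.card_eq_fintype_card, Nat.card_eq_fintype_card, AddChar.card_eq]
  obtain ⟨r, hr⟩ := ((Nat.bijective_iff_injective_and_card _).2 ⟨hinj, hcard⟩).2 η
  exact ⟨r.1, r.2, hr⟩

variable (h : IsHerm B) {W : Type*} [AddCommGroup W] [Module ℂ W] (ρ : Representation ℂ (suG B) W)

theorem rho_mul (g g' : suG B) (v : W) : ρ (g * g') v = ρ g (ρ g' v) := by rw [map_mul]; rfl

theorem rho_inj (g : suG B) {v : W} (hv : ρ g v = 0) : v = 0 := by
  have := congrArg (ρ g⁻¹) hv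
  rwa [← rho_mul, inv_mul_cancel, map_one, map_zero, Module.End.one_apply] at this

/-- A root group acting on the representation. -/
def zAct {e : V} (he : B e e = 0) : AddChar (Skew σ) (Module.End ℂ W) where
  toFun s := ρ (Zel h he s)
  map_zero_eq_one' := by rw [Zel_zero, map_one]
  map_add_eq_mul' s t := by rw [Zel_add, map_mul]

theorem zAct_apply {e : V} (he : B e e = 0) (s : Skew σ) : zAct h ρ he s = ρ (Zel h he s) := rfl

variable {C : Submodule ℂ W}

/-- An isometry scaling the isotropic vector moves the eigenspaces. -/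
theorem map_eig_scale {e : V} (he : B e e = 0) {χ : AddChar (Skew σ) ℂ} {g : suG B} {t : F} (ht : t ≠ 0)
    (hge : g.1 e = t • e) (hgC : ∀ v ∈ C, ρ g v ∈ C) {v : W} (hv : v ∈ eig (zAct h ρ he) C χ) :
    ρ g v ∈ eig (zAct h ρ he) C (shift χ (t * σ t)⁻¹ (by rw [map_inv₀, norm_fixed h.toIsInvol])) := by
  obtain ⟨hvC, hvχ⟩ := mem_eig.1 hv
  refine mem_eig.2 ⟨hgC v hvC, fun s => ?_⟩
  set s' : Skew σ := ⟨(t * σ t)⁻¹ * s, skew_mul s.2 (by rw [map_inv₀, norm_fixed h.toIsInvol])⟩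
  have hN : t * σ t ≠ 0 := mul_ne_zero ht ((map_ne_zero σ).2 ht)
  have key : g * Zel h he s' = Zel h he s * g := by
    rw [conj_Zel, Zel_smul h he _ hge]
    congr 2
    exact Subtype.ext (mul_inv_cancel_left₀ hN (s : F))
  rw [zAct_apply, ← rho_mul, ← key, rho_mul, shift_apply, ← zAct_apply h ρ he, hvχ s', map_smul]

theorem Qel_eig {e : V} (he : B e e = 0) {χ : AddChar (Skew σ) ℂ} {a : V} (hae : B a e = 0) {d : F}
    (hd : d + σ d = -B a a) (hC : ∀ v ∈ C, ρ (Qel h he a hae d hd) v ∈ C) {v : W}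
    (hv : v ∈ eig (zAct h ρ he) C χ) : ρ (Qel h he a hae d hd) v ∈ eig (zAct h ρ he) C χ := by
  obtain ⟨hvC, hvχ⟩ := mem_eig.1 hv
  refine mem_eig.2 ⟨hC v hvC, fun s => ?_⟩
  rw [zAct_apply, ← rho_mul, Zel_comm_Qel, rho_mul, ← zAct_apply h ρ he, hvχ, map_smul]

end Cfsg.Agent.SUDeg
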