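import Mathlib
import Cfsg.Agent.Classical.UnitaryTrans

/-!
Elements of a special unitary group used for the degree bound: root elements, Eichler elements, tori and the
exchange of two hyperbolic pairs, all supported in a given subspace.
-/

set_option autoImplicit false
set_option linter.unusedSectionVars false
set_option linter.unusedSimpArgs false

namespace Cfsg.Agent.SUDeg

open Module Cfsg.Agent.Classical.Herm

variable {F V : Type*} [Field F] [AddCommGroup V] [Module F V] {σ : F →+* F} {B : V →ₛₗ[σ] V →ₗ[F] F}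

/-- The skew elements of the field. -/
def Skew (σ : F →+* F) : AddSubgroup F where
  carrier := {s | s + σ s = 0}
  zero_mem' := by simp
  add_mem' := fun {a b} ha hb => by
    simp only [Set.mem_ofPred_eq, map_add] at ha hb ⊢
    linear_combination ha + hb
  neg_mem' := fun {a} ha => by
    simp only [Set.mem_ofPred_eq, map_neg] at ha ⊢
    linear_combination -ha

theorem mem_skew {s : F} : s ∈ Skew σ ↔ s + σ s = 0 := Iff.rfl

/-- A skew element times a fixed element. -/
theorem skew_mul {s r : F} (hs : s ∈ Skew σ) (hr : σ r = r) : r * s ∈ Skew σ := by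
  rw [mem_skew] at hs ⊢
  rw [map_mul, hr]
  linear_combination r * hs

theorem sub_conj_mem (h : IsInvol σ) (x : F) : x - σ x ∈ Skew σ := by
  rw [mem_skew, map_sub, h.invol]
  ring

theorem norm_fixed (h : IsInvol σ) (x : F) : σ (x * σ x) = x * σ x := by
  rw [map_mul, h.invol, mul_comm]

/-- A map fixing pointwise everything orthogonal to `M`. -/
def Supp (B : V →ₛₗ[σ] V →ₗ[F] F) (M : Submodule F V) (g : V → V) : Prop :=
  ∀ x, (∀ m ∈ M, B m x = 0) → g x = x

variable [Finite F] [FiniteDimensional F V] (h : IsHerm B)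

/-- Root elements. -/
def Zel {e : V} (he : B e e = 0) (s : Skew σ) : suG B := ⟨tvU he (s : F), tvU_mem h he s.2⟩

/-- Eichler elements. -/
def Qel {e : V} (he : B e e = 0) (a : V) (hae : B a e = 0) (d : F) (hd : d + σ d = -B a a) : suG B :=
  ⟨eichler h he hae d, eichler_mem h he hae hd⟩

theorem Zel_apply {e : V} (he : B e e = 0) (s : Skew σ) (x : V) :
    (Zel h he s).1 x = x + ((s : F) * B e x) • e := rfl

theorem Qel_apply {e : V} (he : B e e = 0) (a : V) (hae : B a e = 0) (d : F) (hd : d + σ d = -B a a) (x : V) :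
    (Qel h he a hae d hd).1 x = x + B e x • a + (d * B e x - B a x) • e := rfl

theorem suG_ext {g g' : suG B} (hx : ∀ x, g.1 x = g'.1 x) : g = g' := Subtype.ext (LinearEquiv.ext hx)

theorem mul_apply' (g g' : suG B) (x : V) : (g * g').1 x = g.1 (g'.1 x) := rfl

theorem Zel_zero {e : V} (he : B e e = 0) : Zel h he 0 = 1 :=
  suG_ext fun x => by rw [Zel_apply, ZeroMemClass.coe_zero, zero_mul, zero_smul, add_zero]; rfl

theorem Zel_add {e : V} (he : B e e = 0) (s t : Skew σ) : Zel h he (s + t) = Zel h he s * Zel h he t := by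
  refine suG_ext fun x => ?_
  rw [mul_apply', Zel_apply, Zel_apply, Zel_apply, AddSubgroup.coe_add]
  simp only [map_add, map_smul, smul_eq_mul, he, mul_zero, add_zero]
  module

theorem Qel_congr {e : V} (he : B e e = 0) {a a' : V} (hae : B a e = 0) (hae' : B a' e = 0) {d d' : F}
    (hd : d + σ d = -B a a) (hd' : d' + σ d' = -B a' a') (h1 : a = a') (h2 : d = d') :
    Qel h he a hae d hd = Qel h he a' hae' d' hd' := by
  subst h1 h2
  rfl

theorem Qel_mul {e : V} (he : B e e = 0) {a b : V} (hae : B a e = 0) (hbe : B b e = 0) {c d : F}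
    (hc : c + σ c = -B a a) (hd : d + σ d = -B b b) :
    ∃ (hab : B (a + b) e = 0) (hcd : (c + d - B a b) + σ (c + d - B a b) = -B (a + b) (a + b)),
      Qel h he a hae c hc * Qel h he b hbe d hd = Qel h he (a + b) hab (c + d - B a b) hcd := by
  refine ⟨by rw [map_add, LinearMap.add_apply, hae, hbe, add_zero], ?_, suG_ext fun x => ?_⟩
  · simp only [map_add, map_sub, LinearMap.add_apply, h.symm]
    linear_combination hc + hd
  · have hea : B e a = 0 := (eq_zero_comm h).1 hae
    have heb : B e b = 0 := (eq_zero_comm h).1 hbe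
    simp only [mul_apply', Qel_apply, map_add, map_smul, smul_eq_mul, LinearMap.add_apply, he, hea, heb, hae,
      mul_zero, add_zero]
    module

theorem Qel_zero {e : V} (he : B e e = 0) (s : Skew σ) :
    Qel h he 0 (by simp) (s : F) (by rw [s.2]; simp) = Zel h he s :=
  suG_ext fun x => by simp [Qel_apply, Zel_apply]

theorem Zel_comm_Qel {e : V} (he : B e e = 0) (s : Skew σ) (a : V) (hae : B a e = 0) (d : F)
    (hd : d + σ d = -B a a) : Zel h he s * Qel h he a hae d hd = Qel h he a hae d hd * Zel h he s := by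
  refine suG_ext fun x => ?_
  have hea : B e a = 0 := (eq_zero_comm h).1 hae
  simp only [mul_apply', Qel_apply, Zel_apply, map_add, map_smul, smul_eq_mul, he, hea, hae, mul_zero, add_zero]
  module

/-- The commutation rule of two Eichler elements. -/
theorem Qel_comm {e : V} (he : B e e = 0) {a b : V} (hae : B a e = 0) (hbe : B b e = 0) {c d : F}
    (hc : c + σ c = -B a a) (hd : d + σ d = -B b b) :
    Qel h he b hbe d hd * Qel h he a hae c hc = Zel h he ⟨B a b - B b a,
      by have := sub_conj_mem h.toIsInvol (B a b); rwa [h.symm] at this⟩ * (Qel h he a hae c hc * Qel h he b hbe d hd) := by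
  refine suG_ext fun x => ?_
  have hea : B e a = 0 := (eq_zero_comm h).1 hae
  have heb : B e b = 0 := (eq_zero_comm h).1 hbe
  simp only [mul_apply', Qel_apply, Zel_apply, map_add, map_smul, smul_eq_mul, he, hea, heb, hae, hbe, mul_zero,
    add_zero]
  module

theorem conj_Zel (g : suG B) {e : V} (he : B e e = 0) (s : Skew σ) :
    g * Zel h he s = Zel h (show B (g.1 e) (g.1 e) = 0 by rw [g.2.1, he]) s * g := by
  refine suG_ext fun x => ?_
  simp only [mul_apply', Zel_apply, map_add, map_smul, g.2.1]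

theorem conj_Qel (g : suG B) {e : V} (he : B e e = 0) (a : V) (hae : B a e = 0) (d : F)
    (hd : d + σ d = -B a a) :
    g * Qel h he a hae d hd = Qel h (show B (g.1 e) (g.1 e) = 0 by rw [g.2.1, he]) (g.1 a) (by rw [g.2.1, hae]) d
      (by rw [g.2.1, hd]) * g := by
  refine suG_ext fun x => ?_
  simp only [mul_apply', Qel_apply, map_add, map_smul, g.2.1]

theorem Zel_smul {e e' : V} (he : B e e = 0) (he' : B e' e' = 0) {t : F} (ht : e' = t • e) (s : Skew σ) :
    Zel h he' s = Zel h he ⟨t * σ t * s, skew_mul s.2 (norm_fixed h.toIsInvol t)⟩ := by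
  refine suG_ext fun x => ?_
  subst ht
  simp only [Zel_apply, map_smulₛₗ, LinearMap.smul_apply, smul_eq_mul, smul_smul]
  module

theorem supp_Zel {M : Submodule F V} {e : V} (he : B e e = 0) (heM : e ∈ M) (s : Skew σ) :
    Supp B M (Zel h he s).1 := fun x hx => by rw [Zel_apply, hx e heM]; simp

theorem supp_Qel {M : Submodule F V} {e : V} (he : B e e = 0) (heM : e ∈ M) {a : V} (haM : a ∈ M)
    (hae : B a e = 0) (d : F) (hd : d + σ d = -B a a) : Supp B M (Qel h he a hae d hd).1 := fun x hx => by
  rw [Qel_apply, hx e heM, hx a haM]; simp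

/-! ### Elements given by linear maps -/

include h in
omit [Finite F] in
theorem exists_of_isometry (f : V →ₗ[F] V) (hf : ∀ x y, B (f x) (f y) = B x y) (hdet : LinearMap.det f = 1) :
    ∃ g : suG B, ∀ x, g.1 x = f x := by
  have hinj : Function.Injective f := (injective_iff_map_eq_zero f).2 fun x hx =>
    h.nondeg x fun y => by rw [← hf, hx, map_zero, LinearMap.zero_apply]
  refine ⟨⟨LinearEquiv.ofInjectiveEndo f hinj, fun x y => hf x y, Units.ext ?_⟩, fun x => rfl⟩
  rw [LinearEquiv.coe_det, Units.val_one]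
  exact hdet

/-- The dilation of a hyperbolic pair, as a linear map. -/
def hypDil (B : V →ₛₗ[σ] V →ₗ[F] F) (e f : V) (t : F) : V →ₗ[F] V :=
  LinearMap.transvection ((t - 1) • B f) e ∘ₗ LinearMap.transvection (((σ t)⁻¹ - 1) • B e) f

variable {e f : V} (he : B e e = 0) (hf : B f f = 0) (hef : B e f = 1)

omit [Finite F] [FiniteDimensional F V] in
include hf in
theorem hypDil_apply (t : F) (x : V) :
    hypDil B e f t x = x + ((t - 1) * B f x) • e + (((σ t)⁻¹ - 1) * B e x) • f := by
  simp only [hypDil, LinearMap.comp_apply, LinearMap.transvection.apply, LinearMap.smul_apply, smul_eq_mul,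
    map_add, map_smul, hf, mul_zero, add_zero]
  module

include h he hef hf

omit [Finite F] [FiniteDimensional F V] in
theorem hypDil_isometry {t : F} (ht : t ≠ 0) (x y : V) :
    B (hypDil B e f t x) (hypDil B e f t y) = B x y := by
  have hst : σ t * (σ t)⁻¹ = 1 := mul_inv_cancel₀ ((map_ne_zero σ).2 ht)
  have htt : t * t⁻¹ = 1 := mul_inv_cancel₀ ht
  have hfe : B f e = 1 := by rw [← h.symm, hef, map_one]
  simp only [hypDil_apply hf, map_add, map_smulₛₗ, LinearMap.add_apply, LinearMap.smul_apply, smul_eq_mul,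
    RingHom.id_apply, map_mul, map_sub, map_one, map_inv₀, h.invol, h.symm, he, hf, hef, hfe, mul_zero, add_zero,
    mul_one]
  linear_combination (B x f * B e y) * hst + (B x e * B f y) * htt

omit [Finite F] in
theorem det_hypDil (t : F) : LinearMap.det (hypDil B e f t) = t * (σ t)⁻¹ := by
  have hfe : B f e = 1 := by rw [← h.symm, hef, map_one]
  rw [hypDil, LinearMap.det_comp, LinearMap.transvection.det, LinearMap.transvection.det, LinearMap.smul_apply,
    LinearMap.smul_apply, hfe, hef, smul_eq_mul, smul_eq_mul]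
  ring

omit he hef hf

/-- The torus element on two orthogonal hyperbolic pairs. -/
theorem exists_torus4 {M : Submodule F V} {w w' : V} (hwM : w ∈ M) (hw'M : w' ∈ M) (heM : e ∈ M) (hfM : f ∈ M)
    (he : B e e = 0) (hf : B f f = 0) (hef : B e f = 1) (hw : B w w = 0) (hw' : B w' w' = 0) (hww : B w w' = 1)
    (h1 : B e w = 0) (h2 : B f w = 0) (h3 : B w e = 0) (h4 : B w' e = 0) {t : F} (ht : t ≠ 0) :
    ∃ g : suG B, Supp B M g.1 ∧ g.1 w = t • w ∧ g.1 e = t⁻¹ • e := by
  obtain ⟨g, hg⟩ := exists_of_isometry h (hypDil B w w' t ∘ₗ hypDil B e f t⁻¹) (fun x y => by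
      rw [LinearMap.comp_apply, LinearMap.comp_apply, hypDil_isometry h hw hw' hww ht,
        hypDil_isometry h he hf hef (inv_ne_zero ht)])
    (by
      rw [LinearMap.det_comp, det_hypDil h hw hw' hww, det_hypDil h he hf hef, map_inv₀, inv_inv]
      have := (map_ne_zero σ).2 ht
      field_simp)
  have hw'w : B w' w = 1 := by rw [← h.symm, hww, map_one]
  have hfe : B f e = 1 := by rw [← h.symm, hef, map_one]
  refine ⟨g, fun x hx => ?_, ?_, ?_⟩
  · rw [hg, LinearMap.comp_apply, hypDil_apply hf, hx e heM, hx f hfM]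
    simp [hypDil_apply hw', hx w hwM, hx w' hw'M]
  · rw [hg, LinearMap.comp_apply, hypDil_apply hf, h1, h2]
    simp only [mul_zero, zero_smul, add_zero, hypDil_apply hw', hw'w, hw]
    module
  · have e1 : hypDil B e f t⁻¹ e = t⁻¹ • e := by
      rw [hypDil_apply hf, hfe, he]
      module
    rw [hg, LinearMap.comp_apply, e1, hypDil_apply hw']
    simp [h3, h4]

/-- The torus element on a hyperbolic pair and a vector of norm one. -/
theorem exists_torus3 {M : Submodule F V} {u : V} (heM : e ∈ M) (hfM : f ∈ M) (huM : u ∈ M)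
    (he : B e e = 0) (hf : B f f = 0) (hef : B e f = 1) (hu : B u u = 1) (hue : B u e = 0) (huf : B u f = 0)
    {t : F} (ht : t ≠ 0) : ∃ g : suG B, Supp B M g.1 ∧ g.1 e = t • e := by
  have hst := (map_ne_zero σ).2 ht
  let D : V →ₗ[F] V := LinearMap.transvection ((σ t * t⁻¹ - 1) • B u) u
  have hD : ∀ x, D x = x + ((σ t * t⁻¹ - 1) * B u x) • u := fun x => rfl
  have hDiso : ∀ x y, B (D x) (D y) = B x y := by
    intro x y
    have hz : σ (σ t * t⁻¹) * (σ t * t⁻¹) = 1 := by
      rw [map_mul, map_inv₀, h.invol]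
      field_simp
    simp only [hD, map_add, map_smulₛₗ, LinearMap.add_apply, LinearMap.smul_apply, smul_eq_mul, RingHom.id_apply,
      h.symm, hu, mul_one]
    rw [show ∀ c d : F, σ (c * d) = σ c * σ d from map_mul σ, h.symm, map_sub σ, map_one]
    linear_combination (B x u * B u y) * hz
  obtain ⟨g, hg⟩ := exists_of_isometry h (D ∘ₗ hypDil B e f t) (fun x y => by
      rw [LinearMap.comp_apply, LinearMap.comp_apply, hDiso, hypDil_isometry h he hf hef ht])
    (by
      rw [LinearMap.det_comp, det_hypDil h he hf hef, LinearMap.transvection.det, LinearMap.smul_apply, hu,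
        smul_eq_mul]
      field_simp
      ring)
  refine ⟨g, fun x hx => ?_, ?_⟩
  · rw [hg, LinearMap.comp_apply, hypDil_apply hf, hx e heM, hx f hfM]
    simp [hD, hx u huM]
  · have e1 : hypDil B e f t e = t • e := by
      rw [hypDil_apply hf, he, show B f e = 1 by rw [← h.symm, hef, map_one]]
      module
    rw [hg, LinearMap.comp_apply, e1, hD]
    simp [hue]

/-- The exchange of two orthogonal hyperbolic pairs. -/
theorem exists_swap {M : Submodule F V} {w w' : V} (hwM : w ∈ M) (hw'M : w' ∈ M) (heM : e ∈ M) (hfM : f ∈ M)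
    (he : B e e = 0) (hf : B f f = 0) (hef : B e f = 1) (hw : B w w = 0) (hw' : B w' w' = 0) (hww : B w w' = 1)
    (h1 : B e w = 0) (h2 : B f w = 0) (h3 : B e w' = 0) (h4 : B f w' = 0) :
    ∃ g : suG B, Supp B M g.1 ∧ g.1 w = e ∧ g.1 e = w := by
  have hwe : B w e = 0 := (eq_zero_comm h).1 h1
  have hwf : B w f = 0 := (eq_zero_comm h).1 h2
  have hw'e : B w' e = 0 := (eq_zero_comm h).1 h3
  have hw'f : B w' f = 0 := (eq_zero_comm h).1 h4
  have hw'w : B w' w = 1 := by rw [← h.symm, hww, map_one]
  have hfe : B f e = 1 := by rw [← h.symm, hef, map_one]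
  let R₁ : V →ₗ[F] V := LinearMap.transvection (-B (f - w')) (e - w)
  let R₂ : V →ₗ[F] V := LinearMap.transvection (-B (e - w)) (f - w')
  have hfun : ∀ x, (R₁ ∘ₗ R₂) x = x - B (f - w') x • (e - w) - B (e - w) x • (f - w') := by
    intro x
    simp only [R₁, R₂, LinearMap.comp_apply, LinearMap.transvection.apply, LinearMap.neg_apply, map_add,
      map_smul, map_sub, LinearMap.sub_apply, smul_eq_mul, hf, hw', h4, hw'f, mul_zero, sub_zero, add_zero, neg_zero]
    module
  obtain ⟨g, hg⟩ := exists_of_isometry h (R₁ ∘ₗ R₂) (fun x y => by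
      simp only [hfun, map_sub, map_smulₛₗ, LinearMap.sub_apply, LinearMap.smul_apply, smul_eq_mul, RingHom.id_apply,
        h.symm, he, hf, hef, hfe, hw, hw', hww, hw'w, h1, h2, h3, h4, hwe, hwf, hw'e, hw'f, mul_zero, mul_one,
        sub_zero, zero_sub, sub_neg_eq_add]
      ring)
    (by
      simp only [R₁, R₂, LinearMap.det_comp, LinearMap.transvection.det, LinearMap.neg_apply, map_sub,
        LinearMap.sub_apply, hef, hfe, hww, hw'w, h2, h3, hwf, hw'e]
      ring)
  refine ⟨g, fun x hx => ?_, ?_, ?_⟩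
  · rw [hg, hfun]
    simp [hx e heM, hx f hfM, hx w hwM, hx w' hw'M]
  · rw [hg, hfun]
    simp only [map_sub, LinearMap.sub_apply, h1, h2, hw, hw'w]
    module
  · rw [hg, hfun]
    simp only [map_sub, LinearMap.sub_apply, he, hfe, hwe, hw'e]
    module

end Cfsg.Agent.SUDeg
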