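import Cfsg.Agent.SUDeg.Chars

/-!
An eigenspace of one root group contains a vector fixed by an orthogonal root group.
-/

set_option autoImplicit false
set_option linter.unusedSectionVars false
set_option linter.unusedSimpArgs false

namespace Cfsg.Agent.SUDeg

open Module Cfsg.Agent.Classical.Herm

variable {F V : Type*} [Field F] [Finite F] [AddCommGroup V] [Module F V] [FiniteDimensional F V]
variable {σ : F →+* F} {B : V →ₛₗ[σ] V →ₗ[F] F}
variable (h : IsHerm B) {W : Type*} [AddCommGroup W] [Module ℂ W]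
variable (ρ : Representation ℂ (suG B) W) {C : Submodule ℂ W} {M : Submodule F V}

theorem exists_fixed (hC : ∀ g : suG B, Supp B M g.1 → ∀ v ∈ C, ρ g v ∈ C) {e w w' : V}
    (he : B e e = 0) (hw : B w w = 0) (hw' : B w' w' = 0) (hww : B w w' = 1) (hwe : B w e = 0) (hw'e : B w' e = 0)
    (heM : e ∈ M) (hwM : w ∈ M) (hw'M : w' ∈ M) {χ : AddChar (Skew σ) ℂ} (hχ : χ ≠ 1)
    (hne : eig (zAct h ρ he) C χ ≠ ⊥) :
    ∃ v ∈ eig (zAct h ρ he) C χ, v ≠ 0 ∧ ∀ s, ρ (Zel h hw s) v = v := by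
  classical
  have hw'w : B w' w = 1 := by rw [← h.symm, hww, map_one]
  have hew : B e w = 0 := (eq_zero_comm h).1 hwe
  have hye : ∀ y : F, B (y • w) e = 0 := fun y => by simp [hwe]
  have hyd : ∀ y : F, (0 : F) + σ 0 = -B (y • w) (y • w) := fun y => by simp [hw]
  have hxe : ∀ x : F, B (x • w') e = 0 := fun x => by simp [hw'e]
  have hxd : ∀ x : F, (0 : F) + σ 0 = -B (x • w') (x • w') := fun x => by simp [hw']
  let bel : F → suG B := fun y => Qel h he (y • w) (hye y) 0 (hyd y)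
  let bAct : AddChar F (Module.End ℂ W) :=
    { toFun := fun y => ρ (bel y)
      map_zero_eq_one' := by
        rw [show bel 0 = 1 from suG_ext fun x => by simp [bel, Qel_apply], map_one]
      map_add_eq_mul' := fun y z => by
        rw [show bel (y + z) = bel y * bel z from suG_ext fun x => ?_, map_mul]
        simp only [bel, mul_apply', Qel_apply, map_add, map_smul, map_smulₛₗ, LinearMap.smul_apply,
          LinearMap.add_apply, smul_eq_mul, he, hw, hew, hwe]
        module }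
  set U := eig (zAct h ρ he) C χ with hUdef
  have hQU : ∀ (a : V), a ∈ M → ∀ (hae : B a e = 0) (d : F) (hd : d + σ d = -B a a), ∀ v ∈ U,
      ρ (Qel h he a hae d hd) v ∈ U := fun a ha hae d hd v hv =>
    Qel_eig h ρ he hae hd (hC _ (supp_Qel h he heM ha hae d hd)) hv
  have hbU : ∀ y, ∀ v ∈ U, bAct y v ∈ U := fun y v hv => hQU _ (M.smul_mem y hwM) _ _ _ v hv
  have hδ : ∀ x y : F, σ x * y - x * σ y ∈ Skew σ := fun x y => by
    have := sub_conj_mem h.toIsInvol (σ x * y)
    rwa [map_mul, h.invol] at this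
  let θ : F → AddChar F ℂ := fun x =>
    { toFun := fun y => χ ⟨σ x * y - x * σ y, hδ x y⟩
      map_zero_eq_one' := by
        rw [← χ.map_zero_eq_one]
        exact congrArg χ (Subtype.ext (by simp))
      map_add_eq_mul' := fun y z => by
        rw [← AddChar.map_add_eq_mul]
        exact congrArg χ (Subtype.ext (by simp; ring)) }
  have hθinj : Function.Injective θ := by
    intro x x' hxx
    by_contra hne'
    obtain ⟨s, hs⟩ := exists_ne_one hχ
    obtain ⟨μ, hμ⟩ := exists_antitrace h.toIsInvol (k := (s : F)) (eq_neg_of_add_eq_zero_right s.2)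
    set y := -μ / σ (x - x') with hy
    have e1 : σ (x - x') * y = -μ := mul_div_cancel₀ _ ((map_ne_zero σ).2 (sub_ne_zero.2 hne'))
    have h1 : χ ⟨σ x * y - x * σ y, hδ x y⟩ = χ ⟨σ x' * y - x' * σ y, hδ x' y⟩ := DFunLike.congr_fun hxx y
    have h2 : (⟨σ x * y - x * σ y, hδ x y⟩ : Skew σ) = s + ⟨σ x' * y - x' * σ y, hδ x' y⟩ := by
      refine Subtype.ext ?_
      rw [AddSubgroup.coe_add]
      simp only
      have e2 := congrArg σ e1
      rw [map_mul, h.invol, map_neg] at e2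
      rw [map_sub] at e1
      linear_combination e1 - e2 + hμ
    rw [h2, AddChar.map_add_eq_mul] at h1
    exact hs ((mul_eq_right₀ fun h0 => by
      have := congrArg (‖·‖) h0
      simp at this).1 h1)
  let _ := Fintype.ofFinite F
  have hθ : Function.Bijective θ :=
    (Nat.bijective_iff_injective_and_card _).2 ⟨hθinj, by
      rw [Nat.card_eq_fintype_card, Nat.card_eq_fintype_card, AddChar.card_eq]⟩
  obtain ⟨v0, hv0U, hv0⟩ := (Submodule.ne_bot_iff U).1 hne
  obtain ⟨ψ, v1, hv1, hv1n⟩ := exists_eig hbU hv0U hv0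
  obtain ⟨x1, hx1⟩ := hθ.2 ψ⁻¹
  set U' := eig bAct U 1 with hU'def
  have hu : ρ (Qel h he (x1 • w') (hxe x1) 0 (hxd x1)) v1 ∈ U' := by
    obtain ⟨hv1U, hv1ψ⟩ := mem_eig.1 hv1
    have hAU := hQU _ (M.smul_mem x1 hw'M) (hxe x1) 0 (hxd x1) v1 hv1U
    refine mem_eig.2 ⟨hAU, fun y => ?_⟩
    change ρ (bel y) _ = _
    have hAAU : ρ (Qel h he (x1 • w') (hxe x1) 0 (hxd x1)) (ρ (bel y) v1) ∈ U :=
      hQU _ (M.smul_mem x1 hw'M) _ _ _ _ (hbU y v1 hv1U)
    rw [← rho_mul, Qel_comm h he (hxe x1) (hye y), rho_mul, rho_mul, ← zAct_apply h ρ he, (mem_eig.1 hAAU).2]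
    rw [show ρ (Qel h he (y • w) (hye y) 0 (hyd y)) v1 = ψ y • v1 from hv1ψ y, LinearMap.map_smul (ρ _), smul_smul, AddChar.one_apply]
    have : χ ⟨B (x1 • w') (y • w) - B (y • w) (x1 • w'), by
        have := sub_conj_mem h.toIsInvol (B (x1 • w') (y • w)); rwa [h.symm] at this⟩ = ψ⁻¹ y := by
      rw [← hx1]
      refine congrArg χ (Subtype.ext ?_)
      simp [hw'w, hww]
      ring
    rw [this, ← AddChar.mul_apply, inv_mul_cancel, AddChar.one_apply]
  have hZU' : ∀ s, ∀ v ∈ U', zAct h ρ hw s v ∈ U' := by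
    intro s v hv
    obtain ⟨hvU, hvb⟩ := mem_eig.1 hv
    obtain ⟨hvC, hvχ⟩ := mem_eig.1 hvU
    refine mem_eig.2 ⟨mem_eig.2 ⟨hC _ (supp_Zel h hw hwM s) v hvC, fun t => ?_⟩, fun y => ?_⟩
    · have e : Zel h he t * Zel h hw s = Zel h hw s * Zel h he t := by
        refine suG_ext fun x => ?_
        simp only [mul_apply', Zel_apply, map_add, map_smul, smul_eq_mul, hwe, hew]
        module
      rw [zAct_apply, zAct_apply, ← rho_mul, e, rho_mul, ← zAct_apply h ρ he, hvχ, map_smul]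
    · change ρ (bel y) _ = _
      have e : bel y * Zel h hw s = Zel h hw s * bel y := by
        refine suG_ext fun x => ?_
        simp only [bel, mul_apply', Qel_apply, Zel_apply, map_add, map_smul, map_smulₛₗ, LinearMap.smul_apply,
          smul_eq_mul, hwe, hew, hw]
        module
      rw [zAct_apply, ← rho_mul, e, rho_mul, show ρ (bel y) v = (1 : AddChar F ℂ) y • v from hvb y, map_smul]
  have hune : ρ (Qel h he (x1 • w') (hxe x1) 0 (hxd x1)) v1 ≠ 0 := fun h0 => hv1n (rho_inj ρ _ h0)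
  obtain ⟨η, v, hv, hvn⟩ := exists_eig hZU' hu hune
  obtain ⟨hvU', hvη⟩ := mem_eig.1 hv
  obtain ⟨hvU, hvb⟩ := mem_eig.1 hvU'
  obtain ⟨r, hr, hη⟩ := exists_shift h.toIsInvol hχ η
  obtain ⟨x, hx⟩ := exists_norm h.toIsInvol (a := -r) (by rw [map_neg, hr])
  set A := Qel h he (x • w') (hxe x) 0 (hxd x) with hA
  refine ⟨ρ A v, hQU _ (M.smul_mem x hw'M) _ _ _ v hvU, fun h0 => hvn (rho_inj ρ _ h0), fun s => ?_⟩
  have hms : x * σ x * (s : F) ∈ Skew σ := skew_mul s.2 (norm_fixed h.toIsInvol x)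
  have e : Zel h hw s * A = A * bel ((s : F) * x) * Zel h he ⟨_, hms⟩ * Zel h hw s := by
    refine suG_ext fun z => ?_
    simp only [A, bel, mul_apply', Qel_apply, Zel_apply, map_add, map_smul, map_smulₛₗ, LinearMap.smul_apply,
      LinearMap.add_apply, smul_eq_mul, map_mul, he, hw, hw', hww, hw'w, hwe, hew, hw'e,
      (eq_zero_comm h).1 hw'e]
    rw [show σ (s : F) = -(s : F) from eq_neg_of_add_eq_zero_right s.2]
    module
  rw [← rho_mul, e, rho_mul, rho_mul, rho_mul, ← zAct_apply h ρ hw, hvη s, map_smul, map_smul, map_smul,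
    ← zAct_apply h ρ he, (mem_eig.1 hvU).2, map_smul, map_smul,
    show ρ (bel ((s : F) * x)) v = (1 : AddChar F ℂ) _ • v from hvb _, AddChar.one_apply, one_smul, smul_smul]
  rw [← hη, shift_apply, ← AddChar.map_add_eq_mul]
  have e0 : (⟨r * s, skew_mul s.2 hr⟩ : Skew σ) + ⟨x * σ x * s, hms⟩ = 0 := Subtype.ext (by
    rw [AddSubgroup.coe_add, ZeroMemClass.coe_zero]
    simp only
    rw [hx]; ring)
  rw [e0, AddChar.map_zero_eq_one, one_smul]

end Cfsg.Agent.SUDeg
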