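import Cfsg.Agent.SUDeg.Chars

/-!
The Heisenberg bound: an eigenspace of a nontrivial character of a root group is large.
-/

set_option autoImplicit false
set_option linter.unusedSectionVars false
set_option linter.unusedSimpArgs false

namespace Cfsg.Agent.SUDeg

open Module Cfsg.Agent.Classical.Herm

variable {F V : Type*} [Field F] [Finite F] [AddCommGroup V] [Module F V] [FiniteDimensional F V]
variable {σ : F →+* F} {B : V →ₛₗ[σ] V →ₗ[F] F}
variable (h : IsHerm B) {W : Type*} [AddCommGroup W] [Module ℂ W] [FiniteDimensional ℂ W]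
variable (ρ : Representation ℂ (suG B) W) {C : Submodule ℂ W}

theorem finrank_eig_ge {e : V} (he : B e e = 0) (P : Submodule F V) (hPe : ∀ a ∈ P, B a e = 0)
    (hP : ∀ a ∈ P, (∀ b ∈ P, B a b = 0) → a = 0) {k : ℕ} (hk : finrank F P = k)
    (hQ : ∀ a ∈ P, ∀ (hae : B a e = 0) (d : F) (hd : d + σ d = -B a a),
      ∀ v ∈ C, ρ (Qel h he a hae d hd) v ∈ C)
    {χ : AddChar (Skew σ) ℂ} (hχ : χ ≠ 1) (hne : eig (zAct h ρ he) C χ ≠ ⊥) :
    Nat.card (fixField σ) ^ k ≤ finrank ℂ (eig (zAct h ρ he) C χ) := by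
  classical
  set U := eig (zAct h ρ he) C χ with hU
  obtain ⟨κ, hκ⟩ := exists_trace h.toIsInvol (a := (1 : F)) (map_one σ)
  have hd : ∀ a : V, -κ * B a a + σ (-κ * B a a) = -B a a := fun a => by
    rw [map_mul, map_neg, fix_self h]
    linear_combination -(B a a) * hκ
  let A : P → suG B := fun a => Qel h he a.1 (hPe _ a.2) _ (hd a.1)
  have hAU : ∀ a : P, ∀ v ∈ U, ρ (A a) v ∈ U := fun a v hv =>
    Qel_eig h ρ he _ _ (hQ _ a.2 _ _ _) hv
  let T : P → Module.End ℂ U := fun a => LinearMap.restrict (ρ (A a)) (hAU a)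
  have hδ : ∀ a b : V, B a b - B b a ∈ Skew σ := fun a b => by
    have := sub_conj_mem h.toIsInvol (B a b)
    rwa [h.symm] at this
  have hcomm : ∀ (a b : P) (v : W), v ∈ U →
      ρ (A a) (ρ (A b) v) = χ ⟨B b a - B (a : V) b, hδ _ _⟩ • ρ (A b) (ρ (A a) v) := fun a b v hv => by
    rw [← rho_mul, Qel_comm h he (hPe _ b.2) (hPe _ a.2), rho_mul, rho_mul, ← zAct_apply h ρ he,
      (mem_eig.1 (hAU b _ (hAU a v hv))).2]
  let ψ : P → AddChar P ℂ := fun a =>
    { toFun := fun b => χ ⟨B b a - B (a : V) b, hδ _ _⟩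
      map_zero_eq_one' := by
        rw [← χ.map_zero_eq_one]
        exact congrArg χ (Subtype.ext (by simp))
      map_add_eq_mul' := fun b c => by
        rw [← AddChar.map_add_eq_mul]
        exact congrArg χ (Subtype.ext (by simp; ring)) }
  have hψinj : ∀ a a', ψ a = ψ a' → a = a' := by
    intro a a' he'
    by_contra hne'
    obtain ⟨s, hs⟩ := exists_ne_one hχ
    obtain ⟨μ, hμ⟩ := exists_antitrace h.toIsInvol (k := (s : F))
      (eq_neg_of_add_eq_zero_right s.2)
    obtain ⟨y, hy⟩ : ∃ y : P, B ((a - a' : P) : V) y ≠ 0 := by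
      by_contra hc
      push Not at hc
      exact hne' (sub_eq_zero.1 (Subtype.ext (hP _ (a - a').2 fun b hb => hc ⟨b, hb⟩)))
    set c := μ / B ((a - a' : P) : V) y with hc
    have h1 := DFunLike.congr_fun he' (c • y)
    refine hs ?_
    have h2 : (⟨B (c • y : P) (a : V) - B (a : V) (c • y : P), hδ _ _⟩ : Skew σ)
        = s + ⟨B (c • y : P) (a' : V) - B (a' : V) (c • y : P), hδ _ _⟩ := by
      refine Subtype.ext ?_
      have e1 : B ((a - a' : P) : V) (c • y : P) = μ := by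
        rw [Submodule.coe_smul, map_smul, smul_eq_mul, hc, div_mul_cancel₀ _ hy]
      rw [AddSubgroup.coe_add]
      simp only
      rw [Submodule.coe_sub, map_sub, LinearMap.sub_apply] at e1
      rw [← h.symm (a : V), ← h.symm (a' : V)]
      have e2 := congrArg σ e1
      rw [map_sub] at e2
      linear_combination e2 - e1 + hμ
    change χ _ = χ _ at h1
    rw [h2, AddChar.map_add_eq_mul] at h1
    exact (mul_eq_right₀ fun h0 => by
      have := congrArg (‖·‖) h0
      simp at this).1 h1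
  have : Finite P := Module.finite_of_finite F
  let _ := Fintype.ofFinite P
  have hT : LinearIndependent ℂ T := by
    rw [Fintype.linearIndependent_iff]
    intro c hc a₀
    have key : ∀ b : P, ∀ v ∈ U, ∑ a, (c a * ψ a b) • ρ (A a) v = 0 := fun b v hv => by
      refine rho_inj ρ (A b) ?_
      have h0 : ∑ a, c a • ρ (A a) (ρ (A b) v) = 0 := by
        have := congrArg Subtype.val (LinearMap.congr_fun hc ⟨_, hAU b v hv⟩)
        simpa [T, LinearMap.sum_apply, LinearMap.restrict_apply] using this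
      rw [map_sum, ← h0]
      refine Finset.sum_congr rfl fun a _ => ?_
      rw [map_smul, hcomm a b v hv, smul_smul]
      rfl
    obtain ⟨v, hvU, hv0⟩ := (Submodule.ne_bot_iff U).1 hne
    have h0 : ∑ b : P, (ψ a₀)⁻¹ b • ∑ a, (c a * ψ a b) • ρ (A a) v = 0 :=
      Finset.sum_eq_zero fun b _ => by rw [key b v hvU, smul_zero]
    simp_rw [Finset.smul_sum, smul_smul] at h0
    rw [Finset.sum_comm, Finset.sum_eq_single a₀] at h0
    · rw [← Finset.sum_smul, smul_eq_zero] at h0
      rcases h0 with h0 | h0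
      · have e : ∀ b, (ψ a₀)⁻¹ b * (c a₀ * ψ a₀ b) = c a₀ := fun b => by
          rw [mul_left_comm, ← AddChar.mul_apply, inv_mul_cancel, AddChar.one_apply, mul_one]
        simp_rw [e, Finset.sum_const, nsmul_eq_mul] at h0
        exact (mul_eq_zero.1 h0).resolve_left (Nat.cast_ne_zero.2 (Finset.card_ne_zero.2 ⟨a₀, Finset.mem_univ _⟩))
      · exact absurd (rho_inj ρ _ h0) hv0
    · intro a _ ha
      rw [← Finset.sum_smul]
      have e : ∀ b, (ψ a₀)⁻¹ b * (c a * ψ a b) = c a * ((ψ a₀)⁻¹ * ψ a) b := fun b => by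
        rw [AddChar.mul_apply]; ring
      simp_rw [e, ← Finset.mul_sum]
      rw [AddChar.sum_eq_zero_of_ne_one (fun h1 => ha (hψinj _ _ (inv_mul_eq_one.1 h1)).symm), mul_zero, zero_smul]
    · simp
  have h1 := hT.fintype_card_le_finrank
  rw [Module.finrank_linearMap, ← Nat.card_eq_fintype_card, Module.natCard_eq_pow_finrank (K := F), hk,
    card_eq_fix_sq h.toIsInvol, ← pow_mul, mul_comm 2 k, pow_mul, ← sq] at h1
  exact (Nat.pow_le_pow_iff_left two_ne_zero).1 h1

/-- The eigenspaces of the scaled characters and the fixed space. -/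
theorem orbit_bound {e : V} (he : B e e = 0) {χ : AddChar (Skew σ) ℂ} (hχ : χ ≠ 1)
    (hscale : ∀ t : F, t ≠ 0 → ∃ g : suG B, g.1 e = t • e ∧ ∀ v ∈ C, ρ g v ∈ C)
    (hne : eig (zAct h ρ he) C χ ≠ ⊥) (N : ℕ)
    (hN : ∀ χ' : AddChar (Skew σ) ℂ, χ' ≠ 1 → eig (zAct h ρ he) C χ' ≠ ⊥ →
      N ≤ finrank ℂ (eig (zAct h ρ he) C χ')) :
    (Nat.card (fixField σ) - 1) * N + finrank ℂ (eig (zAct h ρ he) C 1) ≤ finrank ℂ C := by
  classical
  let _ := Fintype.ofFinite (fixField σ)
  let R : Finset (fixField σ) := Finset.univ.filter (· ≠ 0)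
  let Φ : fixField σ → AddChar (Skew σ) ℂ := fun r => shift χ r.1 r.2
  let S := R.image Φ
  have h1S : (1 : AddChar (Skew σ) ℂ) ∉ S := fun hm => by
    obtain ⟨r, hr, h1⟩ := Finset.mem_image.1 hm
    exact shift_ne_one hχ r.2 (fun h0 => (Finset.mem_filter.1 hr).2 (Subtype.ext h0)) h1
  have hcard : S.card = Nat.card (fixField σ) - 1 := by
    rw [Finset.card_image_of_injective _ fun a b hab => Subtype.ext (shift_injective hχ a.2 b.2 hab),
      Nat.card_eq_fintype_card]
    simp only [R, Finset.filter_ne']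
    rw [Finset.card_erase_of_mem (Finset.mem_univ _), Finset.card_univ]
  have := sum_finrank_le (φ := zAct h ρ he) (C := C) (insert 1 S)
  rw [Finset.sum_insert h1S] at this
  have h2 : S.card * N ≤ ∑ χ' ∈ S, finrank ℂ (eig (zAct h ρ he) C χ') := by
    rw [← smul_eq_mul]
    refine Finset.card_nsmul_le_sum _ _ _ fun χ' hχ' => ?_
    obtain ⟨r, hr, rfl⟩ := Finset.mem_image.1 hχ'
    have hr0 : (r : F) ≠ 0 := fun h0 => (Finset.mem_filter.1 hr).2 (Subtype.ext h0)
    refine hN _ (shift_ne_one hχ r.2 hr0) ?_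
    obtain ⟨t, ht⟩ := exists_norm h.toIsInvol (a := (r : F)⁻¹) (by rw [map_inv₀, r.2]; rfl)
    have ht0 : t ≠ 0 := by
      intro h0
      rw [h0, zero_mul] at ht
      exact inv_ne_zero hr0 ht.symm
    obtain ⟨g, hge, hgC⟩ := hscale t ht0
    obtain ⟨v, hv, hv0⟩ := (Submodule.ne_bot_iff _).1 hne
    have hmem := map_eig_scale h ρ he ht0 hge hgC hv
    simp only [ht, inv_inv] at hmem
    exact (Submodule.ne_bot_iff _).2 ⟨_, hmem, fun h0 => hv0 (rho_inj ρ g h0)⟩
  rw [hcard] at h2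
  omega

end Cfsg.Agent.SUDeg
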