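import Cfsg.Agent.SUDeg.Heis
import Cfsg.Agent.SUDeg.Fixed

/-!
The degree bound by induction on the dimension of a non-degenerate subspace.
-/

set_option autoImplicit false
set_option linter.unusedSectionVars false

namespace Cfsg.Agent.SUDeg

open Module Cfsg.Agent.Classical.Herm

/-- The bound. -/
def bnd (q : ℕ) : ℕ → ℕ
  | 0 => 0
  | 1 => 0
  | k + 2 => (q - 1) * q ^ k + bnd q k

variable {F V : Type*} [Field F] [Finite F] [AddCommGroup V] [Module F V] [FiniteDimensional F V]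
variable {σ : F →+* F} {B : V →ₛₗ[σ] V →ₗ[F] F}
variable (h : IsHerm B)

/-- The form is non-degenerate on a subspace. -/
def Nondeg (B : V →ₛₗ[σ] V →ₗ[F] F) (M : Submodule F V) : Prop := ∀ x ∈ M, (∀ y ∈ M, B x y = 0) → x = 0

include h

theorem exists_partner {M : Submodule F V} (hM : Nondeg B M) {e : V} (heM : e ∈ M) (he : B e e = 0) (he0 : e ≠ 0) :
    ∃ f ∈ M, B f f = 0 ∧ B e f = 1 := by
  obtain ⟨y, hy, hey⟩ : ∃ y ∈ M, B e y ≠ 0 := by
    by_contra hc
    push Not at hc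
    exact he0 (hM e heM hc)
  set u := (B e y)⁻¹ • y with hu
  have heu : B e u = 1 := by rw [hu, map_smul, smul_eq_mul, inv_mul_cancel₀ hey]
  have hue : B u e = 1 := by rw [← h.symm, heu, map_one]
  obtain ⟨κ, hκ⟩ := exists_trace h.toIsInvol (a := (1 : F)) (map_one σ)
  refine ⟨u - (κ * B u u) • e, M.sub_mem (M.smul_mem _ hy) (M.smul_mem _ heM), ?_, ?_⟩
  · simp only [map_sub, map_smulₛₗ, LinearMap.sub_apply, LinearMap.smul_apply, smul_eq_mul, RingHom.id_apply,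
      map_mul, fix_self h, he, heu, hue]
    linear_combination -(B u u) * hκ
  · simp only [map_sub, map_smulₛₗ, RingHom.id_apply, smul_eq_mul, he, heu]
    ring

/-- The complement of a hyperbolic pair. -/
theorem pair_compl {M : Submodule F V} (hM : Nondeg B M) {e f : V} (heM : e ∈ M) (hfM : f ∈ M)
    (he : B e e = 0) (hf : B f f = 0) (hef : B e f = 1) :
    finrank F (M ⊓ LinearMap.ker (B e) ⊓ LinearMap.ker (B f) : Submodule F V) + 2 = finrank F M ∧
      Nondeg B (M ⊓ LinearMap.ker (B e) ⊓ LinearMap.ker (B f)) := by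
  set M' := M ⊓ LinearMap.ker (B e) ⊓ LinearMap.ker (B f) with hM'
  have hfe : B f e = 1 := by rw [← h.symm, hef, map_one]
  constructor
  · let φ : M →ₗ[F] F × F := ((B f).prod (B e)).comp M.subtype
    have hsurj : LinearMap.range φ = ⊤ := LinearMap.range_eq_top.2 fun p => by
      refine ⟨⟨p.1 • e + p.2 • f, M.add_mem (M.smul_mem _ heM) (M.smul_mem _ hfM)⟩, ?_⟩
      simp [φ, he, hf, hef, hfe]
    have hk : (LinearMap.ker φ).map M.subtype = M' := by
      ext x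
      simp only [Submodule.mem_map, LinearMap.mem_ker, hM', Submodule.mem_inf]
      constructor
      · rintro ⟨y, hy, rfl⟩
        have hy' := Prod.ext_iff.1 hy
        exact ⟨⟨y.2, hy'.2⟩, hy'.1⟩
      · rintro ⟨⟨h1, h2⟩, h3⟩
        exact ⟨⟨x, h1⟩, Prod.ext h3 h2, rfl⟩
    have := LinearMap.finrank_range_add_finrank_ker φ
    rw [hsurj, finrank_top, Module.finrank_prod, Module.finrank_self] at this
    rw [← hk, Submodule.finrank_map_subtype_eq]
    omega
  · intro x hx hperp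
    obtain ⟨⟨hxM, hxe⟩, hxf⟩ := hx
    rw [SetLike.mem_coe, LinearMap.mem_ker] at hxe hxf
    refine hM x hxM fun y hy => ?_
    have h0 : B x e = 0 := (eq_zero_comm h).1 hxe
    have h1 : B x f = 0 := (eq_zero_comm h).1 hxf
    have := hperp (y - B f y • e - B e y • f) ⟨⟨M.sub_mem (M.sub_mem hy (M.smul_mem _ heM)) (M.smul_mem _ hfM),
      by simp [he, hef]⟩, by simp [hf, hfe]⟩
    simpa [h0, h1] using this

theorem exists_unit {P : Submodule F V} (hP : Nondeg B P) (h0 : P ≠ ⊥) : ∃ u ∈ P, B u u = 1 := by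
  obtain ⟨x, hx, hx0⟩ := (Submodule.ne_bot_iff P).1 h0
  obtain ⟨y, hy, hxy⟩ : ∃ y ∈ P, B x y ≠ 0 := by
    by_contra hc
    push Not at hc
    exact hx0 (hP x hx hc)
  obtain ⟨v, hv, hvv⟩ := exists_anisotropic h P ⟨x, hx, y, hy, hxy⟩
  obtain ⟨c, hc⟩ := exists_unit_of_ne_zero h hvv
  exact ⟨c • v, P.smul_mem _ hv, hc⟩

theorem exists_isotropic {P : Submodule F V} (hP : Nondeg B P) (h2 : 2 ≤ finrank F P) :
    ∃ w ∈ P, B w w = 0 ∧ w ≠ 0 := by
  obtain ⟨u, hu, huu⟩ := exists_unit h hP fun h0 => by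
    rw [h0, finrank_bot] at h2
    omega
  have hnd : Nondeg B (P ⊓ LinearMap.ker (B u)) := fun x hx hperp => by
    obtain ⟨hxP, hxu⟩ := hx
    rw [SetLike.mem_coe, LinearMap.mem_ker] at hxu
    refine hP x hxP fun y hy => ?_
    have := hperp (y - B u y • u) ⟨P.sub_mem hy (P.smul_mem _ hu), by simp [huu]⟩
    simpa [(eq_zero_comm h).1 hxu] using this
  obtain ⟨v, hv, hvv⟩ := exists_unit h hnd fun h0 => by
    have : P ≤ Submodule.span F {u} := fun y hy => by
      have hm : y - B u y • u ∈ P ⊓ LinearMap.ker (B u) := ⟨P.sub_mem hy (P.smul_mem _ hu), by simp [huu]⟩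
      rw [h0, Submodule.mem_bot, sub_eq_zero] at hm
      exact Submodule.mem_span_singleton.2 ⟨_, hm.symm⟩
    have h3 := (Submodule.finrank_mono this).trans (finrank_span_singleton (K := F) (v := u) (fun h0 => by simp [h0] at huu)).le
    omega
  obtain ⟨hvP, hvu⟩ := hv
  rw [SetLike.mem_coe, LinearMap.mem_ker] at hvu
  obtain ⟨c, hc⟩ := exists_norm h.toIsInvol (a := (-1 : F)) (by rw [map_neg, map_one])
  refine ⟨u + c • v, P.add_mem hu (P.smul_mem _ hvP), ?_, fun h0 => ?_⟩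
  · simp [huu, hvv, hvu, (eq_zero_comm h).1 hvu]
    linear_combination hc
  · have := congrArg (B u) h0
    simp [huu, hvu] at this

variable {W : Type*} [AddCommGroup W] [Module ℂ W] [FiniteDimensional ℂ W] (ρ : Representation ℂ (suG B) W)

theorem map_eig_one {C : Submodule ℂ W} {x y : V} (hx : B x x = 0) (hy : B y y = 0) {g : suG B} (hg : g.1 x = y)
    (hgC : ∀ v ∈ C, ρ g v ∈ C) {v : W} (hv : v ∈ eig (zAct h ρ hx) C 1) : ρ g v ∈ eig (zAct h ρ hy) C 1 := by
  refine mem_eig.2 ⟨hgC v (mem_eig.1 hv).1, fun s => ?_⟩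
  subst hg
  rw [zAct_apply, ← rho_mul, ← conj_Zel h g hx, rho_mul, ← zAct_apply h ρ hx, (mem_eig.1 hv).2, AddChar.one_apply,
    one_smul, one_smul]

theorem key : ∀ (m : ℕ) (M : Submodule F V), finrank F M = m → Nondeg B M → ∀ (C : Submodule ℂ W) (L : Set (suG B)),
    (∀ g ∈ L, ∀ v ∈ C, ρ g v ∈ C) → (∀ g : suG B, Supp B M g.1 → g ∈ L) →
    (∀ w ∈ M, ∀ w' ∈ M, B w w = 0 → B w' w' = 0 → B w w' = 1 → ∀ t : F, t ≠ 0 → ∃ g ∈ L, g.1 w = t • w) →
    ∀ (e : V) (he : B e e = 0), e ∈ M → (∃ v ∈ C, ∃ s, ρ (Zel h he s) v ≠ v) →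
      bnd (Nat.card (fixField σ)) m ≤ finrank ℂ C := by
  intro m
  induction m using Nat.strong_induction_on with
  | _ m ih => ?_
  match m with
  | 0 => exact fun _ _ _ _ _ _ _ _ _ _ _ _ => Nat.zero_le _
  | 1 => exact fun _ _ _ _ _ _ _ _ _ _ _ _ => Nat.zero_le _
  | k + 2 => ?_
  intro M hdim hM C L hL hsupp hT e he heM hnt
  obtain ⟨v, hv, s, hs⟩ := hnt
  have hC : ∀ g : suG B, Supp B M g.1 → ∀ v ∈ C, ρ g v ∈ C := fun g hg => hL g (hsupp g hg)
  have he0 : e ≠ 0 := fun h0 => hs (by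
    have : Zel h he s = 1 := suG_ext fun x => by simp [Zel_apply, h0]
    rw [this, map_one, Module.End.one_apply])
  obtain ⟨f, hfM, hf, hef⟩ := exists_partner h hM heM he he0
  obtain ⟨hdim', hM'⟩ := pair_compl h hM heM hfM he hf hef
  set M' := M ⊓ LinearMap.ker (B e) ⊓ LinearMap.ker (B f) with hM'def
  rw [hdim, Nat.add_right_cancel_iff] at hdim'
  have hmem : ∀ a ∈ M', a ∈ M ∧ B e a = 0 ∧ B a e = 0 ∧ B f a = 0 := fun a ha => by
    obtain ⟨⟨h1, h2⟩, h3⟩ := ha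
    exact ⟨h1, h2, (eq_zero_comm h).1 h2, h3⟩
  have hCz : ∀ s, ∀ v ∈ C, zAct h ρ he s v ∈ C := fun s => hC _ (supp_Zel h he heM s)
  obtain ⟨χ, hχ, hne⟩ := exists_eig_nontrivial hCz hv hs
  have hN : ∀ χ' : AddChar (Skew σ) ℂ, χ' ≠ 1 → eig (zAct h ρ he) C χ' ≠ ⊥ →
      Nat.card (fixField σ) ^ k ≤ finrank ℂ (eig (zAct h ρ he) C χ') := fun χ' h1 h2 =>
    finrank_eig_ge h ρ he M' (fun a ha => (hmem a ha).2.2.1) hM' hdim'
      (fun a ha hae d hd => hC _ (supp_Qel h he heM (hmem a ha).1 hae d hd)) h1 h2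
  have h1 := orbit_bound h ρ he hχ (fun t ht => by
    obtain ⟨g, hg, hge⟩ := hT e heM f hfM he hf hef t ht
    exact ⟨g, hge, hL g hg⟩) hne _ hN
  refine le_trans ?_ h1
  show (Nat.card (fixField σ) - 1) * Nat.card (fixField σ) ^ k + bnd _ k ≤ _
  refine Nat.add_le_add_left ?_ _
  by_cases hk : k < 2
  · interval_cases k <;> exact Nat.zero_le _
  obtain ⟨w, hwM', hw, hw0⟩ := exists_isotropic h hM' (by omega)
  obtain ⟨w', hw'M', hw', hww⟩ := exists_partner h hM' hwM' hw hw0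
  obtain ⟨hwM, hew, hwe, hfw⟩ := hmem w hwM'
  obtain ⟨hw'M, hew', hw'e, hfw'⟩ := hmem w' hw'M'
  refine ih k (by omega) M' hdim' hM' (eig (zAct h ρ he) C 1)
    {g | g ∈ L ∧ ∃ a : F, a ≠ 0 ∧ g.1 e = a • e} ?_ ?_ ?_ w hw hwM' ?_
  · rintro g ⟨hg, a, ha, hge⟩ v hv
    have := map_eig_scale h ρ he ha hge (hL g hg) hv
    convert this using 3
    exact DFunLike.ext _ _ fun s => by rw [shift_apply, AddChar.one_apply, AddChar.one_apply]
  · intro g hg
    refine ⟨hsupp g fun x hx => hg x fun a ha => hx a (hmem a ha).1, 1, one_ne_zero, ?_⟩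
    rw [one_smul]
    exact hg e fun a ha => (hmem a ha).2.2.1
  · intro z hzM' z' hz'M' hz hz' hzz t ht
    obtain ⟨hzM, hez, hze, hfz⟩ := hmem z hzM'
    obtain ⟨hz'M, hez', hz'e, hfz'⟩ := hmem z' hz'M'
    obtain ⟨g, hg, hgz, hge⟩ := exists_torus4 h hzM hz'M heM hfM he hf hef hz hz' hzz hez hfz hze hz'e ht
    exact ⟨g, ⟨hsupp g hg, t⁻¹, inv_ne_zero ht, hge⟩, hgz⟩
  · by_contra hc
    push Not at hc
    obtain ⟨g, hg, hgw, -⟩ := exists_swap h hwM hw'M heM hfM he hf hef hw hw' hww hew hfw hew' hfw'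
    have hle : eig (zAct h ρ he) C 1 ≤ eig (zAct h ρ hw) C 1 := fun v hv =>
      mem_eig.2 ⟨(mem_eig.1 hv).1, fun s => by rw [zAct_apply, hc v hv s, AddChar.one_apply, one_smul]⟩
    have hge : finrank ℂ (eig (zAct h ρ hw) C 1) ≤ finrank ℂ (eig (zAct h ρ he) C 1) := by
      refine LinearMap.finrank_le_finrank_of_injective
        (f := LinearMap.restrict (ρ g) fun v hv => map_eig_one h ρ hw he hgw (hC g hg) hv) ?_
      refine (injective_iff_map_eq_zero _).2 fun v hv => Subtype.ext (rho_inj ρ g ?_)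
      exact congrArg Subtype.val hv
    have heq := Submodule.eq_of_le_of_finrank_le hle hge
    obtain ⟨v, hv, hv0, hfix⟩ := exists_fixed h ρ hC he hw hw' hww hwe hw'e heM hwM hw'M hχ hne
    have hv1 : v ∈ eig (zAct h ρ he) C 1 := heq ▸ mem_eig.2
      ⟨(mem_eig.1 hv).1, fun s => by rw [zAct_apply, hfix s, AddChar.one_apply, one_smul]⟩
    refine hχ (DFunLike.ext _ _ fun s => ?_)
    have := (mem_eig.1 hv).2 s
    rw [(mem_eig.1 hv1).2 s] at this
    exact (smul_left_injective ℂ hv0 this).symm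

end Cfsg.Agent.SUDeg
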